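import Groth.Agent.Var76.H0Growth
import Groth.Agent.Var76.SuppVanish
import Groth.Agent.Crv77.PointTwist
import Groth.Agent.DCK91.StalkTensorNat
import Groth.Agent.QC70.ExtZero
import Groth.Agent.Crv77.Degree

/-!
Higher cohomology of powers of a globally generated invertible module grows slowly.
-/

set_option autoImplicit false
set_option linter.style.haveILetI false
set_option backward.isDefEq.respectTransparency.types false
universe u

open CategoryTheory CategoryTheory.Limits AlgebraicGeometry TopologicalSpace Opposite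

noncomputable section

namespace Groth.Agent.NefVan72

/-- The growth classes: `O((n+1)^(e-1))`, and zero for `e = 0`. -/
def Gr (e : ℕ) (f : ℕ → ℕ) : Prop := ∃ C : ℕ, ∀ n, f n ≤ C * Var76.Growth.w e n

theorem Gr.of_le {e : ℕ} {f g : ℕ → ℕ} (hg : Gr e g) (h : ∀ n, f n ≤ g n) : Gr e f := by
  obtain ⟨C, hC⟩ := hg
  exact ⟨C, fun n => (h n).trans (hC n)⟩

theorem Gr.add {e : ℕ} {f g : ℕ → ℕ} (hf : Gr e f) (hg : Gr e g) : Gr e (fun n => f n + g n) := by
  obtain ⟨C, hC⟩ := hf
  obtain ⟨D, hD⟩ := hg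
  exact ⟨C + D, fun n => (add_le_add (hC n) (hD n)).trans (add_mul C D _).ge⟩

theorem Gr.zero (e : ℕ) {f : ℕ → ℕ} (h : ∀ n, f n = 0) : Gr e f :=
  ⟨0, fun n => by simp [h n]⟩

theorem w_le_succ (e n : ℕ) : Var76.Growth.w e n ≤ Var76.Growth.w (e + 1) n := by
  cases e with
  | zero => exact Nat.zero_le _
  | succ e => exact Nat.pow_le_pow_right (Nat.succ_pos n) (Nat.le_succ e)

theorem Gr.mono {e e' : ℕ} {f : ℕ → ℕ} (h : e ≤ e') (hf : Gr e f) : Gr e' f := by
  induction h with
  | refl => exact hf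
  | step h ih =>
    obtain ⟨C, hC⟩ := ih
    exact ⟨C, fun n => (hC n).trans (Nat.mul_le_mul_left _ (w_le_succ _ n))⟩

/-- Summing raises the exponent by one. -/
theorem Gr.of_step {e : ℕ} {f g : ℕ → ℕ} (hg : Gr e g) (h : ∀ n, f (n + 1) ≤ f n + g n) :
    Gr (e + 1) f := by
  obtain ⟨C, hC⟩ := hg
  have hbd : ∀ m, f m ≤ f 0 + C * (m * Var76.Growth.w e m) := by
    intro m
    induction m with
    | zero => simp
    | succ m ih =>
      have h1 : (m + 1) * Var76.Growth.w e m ≤ (m + 1) * Var76.Growth.w e (m + 1) :=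
        Nat.mul_le_mul_left _ (Var76.Growth.w_mono e m)
      have h2 := Nat.mul_le_mul_left C h1
      rw [add_mul, one_mul, mul_add] at h2
      have := h m
      have := hC m
      omega
  refine ⟨f 0 + C, fun m => (hbd m).trans ?_⟩
  rw [add_mul]
  exact add_le_add (Nat.le_mul_of_pos_right _ (pow_pos (Nat.succ_pos _) _))
    (Nat.mul_le_mul_left _ (Var76.Growth.mul_w_le e m))

variable (k : Type u) [Field k]

theorem finrank_le_of_exact {A B C : Type u} [AddCommGroup A] [Module k A] [Module.Finite k A]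
    [AddCommGroup B] [Module k B] [Module.Finite k B] [AddCommGroup C] [Module k C] [Module.Finite k C]
    (f : A →ₗ[k] B) (g : B →ₗ[k] C) (h : Function.Exact f g) :
    Module.finrank k B ≤ Module.finrank k A + Module.finrank k C := by
  have h1 := LinearMap.finrank_range_add_finrank_ker g
  have h2 : LinearMap.ker g = LinearMap.range f := LinearMap.exact_iff.1 h
  have h3 := LinearMap.finrank_range_le f
  have h4 := Submodule.finrank_le (LinearMap.range g)
  rw [h2] at h1
  omega

variable {X : Scheme.{u}} [X.Over (Spec (CommRingCat.of k))] [IsProper (X ↘ (Spec (CommRingCat.of k)))]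

/-- The dimension of the cohomology of a twist. -/
def hh (L F : X.Modules) (i n : ℕ) : ℕ :=
  Module.finrank k (Coh.HH X (CohB1.tensorMod F (CohB1.tensorPow L n)) i)

omit [IsProper (X ↘ (Spec (CommRingCat.of k)))] in
theorem hh_congr (L : X.Modules) {F G : X.Modules} (e : F ≅ G) (i n : ℕ) : hh k L F i n = hh k L G i n :=
  (Crv77.hEquiv k (EGA73.tensIso e (Iso.refl (CohB1.tensorPow L n))) i).finrank_eq

omit [IsProper (X ↘ (Spec (CommRingCat.of k)))] in
theorem hh_shift (L F : X.Modules) (i n : ℕ) : hh k L (CohB1.tensorMod F L) i n = hh k L F i (n + 1) :=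
  (Crv77.hEquiv k (EGA73.tensAssoc' F L (CohB1.tensorPow L n) ≪≫
    EGA73.tensIso (Iso.refl F) (EGA73.tensComm L (CohB1.tensorPow L n))) i).finrank_eq

variable {L : X.Modules} (hL : PicF.IsInvertible L)
include hL

theorem finite_twist {F : X.Modules} (hF : Coh.IsCoh F) (i n : ℕ) :
    Module.Finite k (Coh.HH X (CohB1.tensorMod F (CohB1.tensorPow L n)) i) :=
  Serre71.finite_hh_of_isProper k _
    (Amp73.isCoh_tensorMod hF (Amp73.isCoh_of_isInvertible (EGA73.isInvertible_tensorPow hL _))) i

omit [IsProper (X ↘ (Spec (CommRingCat.of k)))] in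
theorem hh_isZero {F : X.Modules} (hF : IsZero F) (i n : ℕ) : hh k L F i n = 0 := by
  have : Subsingleton (Coh.HH X (CohB1.tensorMod F (CohB1.tensorPow L n)) i) :=
    ValVan29.subsingleton_hh_of_isZero
      (ValVan29.isZero_tensorMod hF (EGA73.isInvertible_tensorPow hL _)) i
  exact Module.finrank_zero_of_subsingleton

variable {S : ShortComplex X.Modules} (hS : S.ShortExact)
  (h₁ : Coh.IsCoh S.X₁) (h₂ : Coh.IsCoh S.X₂) (h₃ : Coh.IsCoh S.X₃)
include hS h₁ h₂ h₃

theorem hh_les (i n : ℕ) :
    hh k L S.X₂ i n ≤ hh k L S.X₁ i n + hh k L S.X₃ i n ∧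
      hh k L S.X₁ (i + 1) n ≤ hh k L S.X₃ i n + hh k L S.X₂ (i + 1) n ∧
      hh k L S.X₃ i n ≤ hh k L S.X₂ i n + hh k L S.X₁ (i + 1) n ∧
      hh k L S.X₁ 0 n ≤ hh k L S.X₂ 0 n := by
  obtain ⟨T, hT, e₁, e₂, e₃⟩ := Crv77.shortExact_twist
    (Mero90.isFinLocFreeOfRank_of_isInvertible (EGA73.isInvertible_tensorPow hL n)) hS
  have f₁ := fun j => finite_twist k hL h₁ j n
  have f₂ := fun j => finite_twist k hL h₂ j n
  have f₃ := fun j => finite_twist k hL h₃ j n
  unfold hh
  rw [← e₁, ← e₂, ← e₃]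
  rw [← e₁] at f₁
  rw [← e₂] at f₂
  rw [← e₃] at f₃
  exact ⟨finrank_le_of_exact k _ _ (Crv77.exact_f_g k hT i),
    finrank_le_of_exact k _ _ (Crv77.exact_δ_f k hT i),
    finrank_le_of_exact k _ _ (Crv77.exact_g_δ k hT i),
    LinearMap.finrank_le_finrank_of_injective (Crv77.injective_f_zero k hT)⟩

omit hS h₁ h₂ h₃

theorem hh_vanish [NoetherianSpace X] {F : X.Modules} (hF : Coh.IsCoh F) {d : ℕ}
    (hd : topologicalKrullDim (CohB1.support F) ≤ (d : WithBot ℕ∞)) {i : ℕ} (hi : d < i) (n : ℕ) :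
    hh k L F i n = 0 := by
  haveI := hF.1
  haveI := hF.2
  have hs := Snapper75.support_twist F (EGA73.isInvertible_tensorPow hL n)
  have : Subsingleton (Coh.HH X (CohB1.tensorMod F (CohB1.tensorPow L n)) i) :=
    Var76.subsingleton_HH_of_support _ (QC70.isClosed_support F)
      (fun x hx => QC70.notMem_support_iff.1 (fun h => hx (hs.le h))) hd i hi
  exact Module.finrank_zero_of_subsingleton

omit [IsProper (X ↘ (Spec (CommRingCat.of k)))] in
/-- A generating section, bijective on the stalk at a given point. -/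
theorem exists_section [CompactSpace X] (hgen : Curv2.IsGloballyGenerated L) (y : X) :
    ∃ s : Coh.structureModule X ⟶ L, Function.Bijective (QC70.stalkMapM s y) := by
  obtain ⟨x, hx, hyx⟩ := Crv77.exists_isClosed_specializes y
  obtain ⟨t, ht⟩ := Crv77.exists_gen_of_isGloballyGenerated hL hgen hx
  let s := Var76.Frames.ofSection L t
  have hyU : y ∈ CohB1.genLocus L s := hyx.mem_open (CohB1.genLocus L s).2 ht
  haveI : IsIso ((Scheme.Modules.restrictFunctor (CohB1.genLocus L s).ι).map s) :=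
    (Amp73.isIso_restrict_map_iff s _).2 ((Amp73.isFrame_iff_le_genLocus s _).2 le_rfl)
  exact ⟨s, (QC70.bijective_stalkMapM_restrict_iff (CohB1.genLocus L s).ι s ⟨y, hyU⟩).1
    (QC70.bijective_stalkMapM_of_isIso _ _)⟩

omit hL

omit [IsProper (X ↘ (Spec (CommRingCat.of k)))] [X.Over (Spec (CommRingCat.of k))] in
/-- Whiskering keeps bijectivity on stalks. -/
theorem bijective_stalk_whisker (G : X.Modules) {M N : X.Modules} (s : M ⟶ N) (y : X)
    (hs : Function.Bijective (QC70.stalkMapM s y)) :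
    Function.Bijective (QC70.stalkMapM ((DCoh.tensorBi.obj G).map s) y) := by
  haveI h₁ : IsIso ((DCK91.SP y).map s) := by
    refine (ConcreteCategory.isIso_iff_bijective _).2 ?_
    have h : ((DCK91.SP y).map s : _ → _) = QC70.stalkMapM s y := funext (DCK91.SP_map_apply y s)
    exact h ▸ hs
  have hc := DCK91.tensorStalk_right y G s
  haveI h₂ : IsIso (DCK91.tensorStalk y G M ≫ (DCK91.SP y).map ((DCoh.tensorBi.obj G).map s)) :=
    hc ▸ inferInstance
  have h₃ : IsIso ((DCK91.SP y).map ((DCoh.tensorBi.obj G).map s)) :=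
    IsIso.of_isIso_comp_left (DCK91.tensorStalk y G M) _
  have h := (ConcreteCategory.isIso_iff_bijective _).1 h₃
  have h' : ((DCK91.SP y).map ((DCoh.tensorBi.obj G).map s) : _ → _) =
      QC70.stalkMapM ((DCoh.tensorBi.obj G).map s) y := funext (DCK91.SP_map_apply y _)
  exact h' ▸ h

include hL

omit hL

omit [IsProper (X ↘ (Spec (CommRingCat.of k)))] [X.Over (Spec (CommRingCat.of k))] in
theorem tensor_obj (M N : X.Modules) : CohB1.tensorMod M N = (DCoh.tensorBi.obj M).obj N := rfl

include hL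

omit [IsProper (X ↘ (Spec (CommRingCat.of k)))] in
/-- Multiplication by a section that generates at a point, bijective on the stalk there. -/
theorem exists_mulMap [CompactSpace X] (hgen : Curv2.IsGloballyGenerated L) (G : X.Modules) (y : X) :
    ∃ φ : G ⟶ CohB1.tensorMod G L, Function.Bijective (QC70.stalkMapM φ y) := by
  obtain ⟨s, hs⟩ := exists_section hL hgen y
  have hi : Nonempty (CohB1.tensorMod G (Coh.structureModule X) ≅ G) := ⟨EGA73.tensUnitRight G⟩
  rw [tensor_obj] at hi
  rw [tensor_obj]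
  obtain ⟨i⟩ := hi
  have hψ := bijective_stalk_whisker G s y hs
  generalize (DCoh.tensorBi.obj G).map s = ψ at hψ
  refine ⟨i.inv ≫ ψ, ?_⟩
  rw [funext (QC70.stalkMapM_comp i.inv ψ y)]
  exact hψ.comp (QC70.bijective_stalkMapM_of_isIso i.inv y)

omit hL

/-- The growth statement in dimension `< d`. -/
def Claim (L : X.Modules) (d : ℕ) (F : X.Modules) : Prop :=
  Gr d (hh k L F 0) ∧ ∀ i : ℕ, Gr (d - 1) (hh k L F (i + 1))

theorem Claim.mono {d d' : ℕ} {L F : X.Modules} (h : d ≤ d') (hF : Claim k L d F) : Claim k L d' F :=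
  ⟨hF.1.mono h, fun i => (hF.2 i).mono (Nat.sub_le_sub_right h 1)⟩

include hL

theorem claim_isZero (d : ℕ) {F : X.Modules} (hF : IsZero F) : Claim k L d F :=
  ⟨Gr.zero _ (hh_isZero k hL hF 0), fun i => Gr.zero _ (hh_isZero k hL hF (i + 1))⟩

/-- The generic step. -/
theorem claim_generic [IsNoetherian X] (hgen : Curv2.IsGloballyGenerated L) (d : ℕ) {G : X.Modules}
    (hG : Coh.IsCoh G) (y : X) (hGsupp : CohB1.support G ⊆ closure {y})
    (hdy : topologicalKrullDim (CohB1.support G) ≤ (d : WithBot ℕ∞))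
    (small : ∀ M : X.Modules, Coh.IsCoh M → CohB1.support M ⊆ closure {y} → y ∉ CohB1.support M →
      Claim k L d M) : Claim k L (d + 1) G := by
  haveI : CompactSpace X := inferInstance
  haveI := hG.1
  have hF' : Coh.IsCoh (CohB1.tensorMod G L) :=
    Amp73.isCoh_tensorMod hG (Amp73.isCoh_of_isInvertible hL)
  haveI := hF'.1
  obtain ⟨φ, hφ⟩ := exists_mulMap hL hgen G y
  let S₁ := ShortComplex.mk (kernel.ι φ) (cokernel.π (kernel.ι φ)) (cokernel.condition _)
  have hS₁ : S₁.ShortExact :=
    ShortComplex.ShortExact.mk' (ShortComplex.exact_cokernel _) inferInstance inferInstance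
  let j : cokernel (kernel.ι φ) ⟶ CohB1.tensorMod G L := cokernel.desc _ φ (kernel.condition φ)
  haveI : Mono j := inferInstanceAs (Mono (Abelian.factorThruCoimage φ))
  let S₂ := ShortComplex.mk j (cokernel.π j) (cokernel.condition _)
  have hS₂ : S₂.ShortExact :=
    ShortComplex.ShortExact.mk' (ShortComplex.exact_cokernel _) inferInstance inferInstance
  have hK : Coh.IsCoh (kernel φ) := QC70.isCoh_kernel φ hG hF'.1
  have hI : Coh.IsCoh (cokernel (kernel.ι φ)) := QC70.isCoh_cokernel _ hK.1 hG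
  have hQ : Coh.IsCoh (cokernel j) := QC70.isCoh_cokernel j hI.1 hF'
  have hKs : CohB1.support (kernel φ) ⊆ closure {y} :=
    (QC70.mem_support_of_mono (kernel.ι φ)).trans hGsupp
  have hQs : CohB1.support (cokernel j) ⊆ closure {y} :=
    (QC70.mem_support_of_epi (cokernel.π j)).trans ((Snapper75.support_twist G hL).le.trans hGsupp)
  have hKy : y ∉ CohB1.support (kernel φ) :=
    QC70.notMem_support_iff.2 (QC70.subsingleton_stalk_kernel φ y hφ.1)
  have hQy : y ∉ CohB1.support (cokernel j) := by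
    refine QC70.notMem_support_iff.2 (QC70.subsingleton_stalk_cokernel j y fun b => ?_)
    obtain ⟨a, rfl⟩ := hφ.2 b
    exact ⟨QC70.stalkMapM (cokernel.π (kernel.ι φ)) y a, (QC70.stalkMapM_comp _ _ y a).symm.trans
      (congrArg (fun f => QC70.stalkMapM f y a) (cokernel.π_desc _ _ _))⟩
  obtain ⟨-, hK1⟩ := small _ hK hKs hKy
  obtain ⟨hQ0, hQ1⟩ := small _ hQ hQs hQy
  have step : ∀ i n, hh k L G i (n + 1) ≤
      hh k L G i n + (hh k L (kernel φ) (i + 1) n + hh k L (cokernel j) i n) := by
    intro i n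
    rw [← hh_shift]
    have a := (hh_les k hL hS₂ hI hF' hQ i n).1
    have b := (hh_les k hL hS₁ hK hG hI i n).2.2.1
    simp only [S₁, S₂] at a b
    omega
  refine ⟨Gr.of_step (((hK1 0).mono (Nat.sub_le d 1)).add hQ0) (step 0), fun i => ?_⟩
  show Gr d _
  rcases d with _ | e
  · exact Gr.zero _ (hh_vanish k hL hG hdy (Nat.succ_pos i))
  · exact Gr.of_step ((hK1 (i + 1)).add (hQ1 i)) (step (i + 1))

/-- The growth bound by the dimension of the support. -/
theorem claim_of_dim (hgen : Curv2.IsGloballyGenerated L) : ∀ (d : ℕ) (F : X.Modules), Coh.IsCoh F →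
    topologicalKrullDim (CohB1.support F) < (d : WithBot ℕ∞) → Claim k L d F
  | 0, F, hF, hd => by
    have hempty : CohB1.support F = ∅ := by
      by_contra hne
      obtain ⟨x, hx⟩ := Set.nonempty_iff_ne_empty.2 hne
      haveI := hF.2
      have hcl := QC70.isClosed_support F
      have : Nonempty (IrreducibleCloseds (CohB1.support F)) :=
        ⟨⟨closure {⟨x, hx⟩}, isIrreducible_singleton.closure, isClosed_closure⟩⟩
      exact absurd hd (not_lt.2 (Order.krullDim_nonneg_iff.2 this))
    exact claim_isZero k hL 0 (QC70.isZero_of_support_eq_empty hempty)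
  | d + 1, F, hF, hd => by
    have := Crv77.isNoetherian_of_proper k X
    have IHd := claim_of_dim hgen d
    haveI := hF.1
    haveI := hF.2
    refine QC70.devissage (fun M => Coh.IsCoh M → Claim k L (d + 1) M)
      (fun M N ⟨e⟩ h hN => ?_)
      (fun M hM _ => claim_isZero k hL _ hM)
      (fun S hS h₁ h₂ h₃ p₁ p₃ _ => ?_)
      (fun G m hG hm hP _ => ?_) (CohB1.support F) (QC70.isClosed_support F) (fun y hy IH => ?_)
      F hF subset_rfl hF
    · obtain ⟨h0, h1⟩ := h (QC70.isCoh_of_iso e.symm hN)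
      exact ⟨h0.of_le fun n => (hh_congr k L e 0 n).symm.le,
        fun i => (h1 i).of_le fun n => (hh_congr k L e (i + 1) n).symm.le⟩
    · exact ⟨((p₁ h₁).1.add (p₃ h₃).1).of_le fun n => (hh_les k hL hS h₁ h₂ h₃ 0 n).1,
        fun i => (((p₁ h₁).2 i).add ((p₃ h₃).2 i)).of_le fun n => (hh_les k hL hS h₁ h₂ h₃ (i + 1) n).1⟩
    · obtain ⟨m, rfl⟩ : ∃ m', m = m' + 1 := ⟨m - 1, by omega⟩
      let e := biproduct.isoCoproduct fun _ : Fin (m + 1) => G
      obtain ⟨h0, h1⟩ := hP (QC70.isCoh_of_iso e (QC70.isCoh_biproduct _ fun _ => hG))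
      let q : (∐ fun _ : Fin (m + 1) => G) ⟶ G := Sigma.desc fun _ => 𝟙 G
      let ι₀ : G ⟶ ∐ fun _ : Fin (m + 1) => G := Sigma.ι (fun _ : Fin (m + 1) => G) 0
      have hle : ∀ i n, hh k L G i n ≤ hh k L (∐ fun _ : Fin (m + 1) => G) i n := fun i n => by
        haveI := finite_twist k hL (QC70.isCoh_of_iso e (QC70.isCoh_biproduct _ fun _ => hG)) i n
        refine LinearMap.finrank_le_finrank_of_injective
          (f := Crv77.hmap k ((Crv77.twist (CohB1.tensorPow L n)).map ι₀) i) fun a b hab => ?_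
        have h := congrArg (Crv77.hmap k ((Crv77.twist (CohB1.tensorPow L n)).map q) i) hab
        have hid : ∀ c, Crv77.hmap k ((Crv77.twist (CohB1.tensorPow L n)).map q) i
            (Crv77.hmap k ((Crv77.twist (CohB1.tensorPow L n)).map ι₀) i c) = c := fun c => by
          refine (Crv77.hmap_comp k _ _ i c).trans ?_
          rw [← Functor.map_comp, show ι₀ ≫ q = 𝟙 G from Sigma.ι_desc _ _, CategoryTheory.Functor.map_id]
          exact Crv77.hmap_id k _ i c
        exact (hid a).symm.trans (h.trans (hid b))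
      exact ⟨h0.of_le (hle 0), fun i => (h1 i).of_le (hle (i + 1))⟩
    · let Y : Closeds X := ⟨closure {y}, isClosed_closure⟩
      let I := Scheme.IdealSheafData.vanishingIdeal Y
      have hI : (I.support : Set X) = closure {y} := Scheme.IdealSheafData.coe_support_vanishingIdeal Y
      have hO : Coh.IsCoh (Coh.structureModule X) := QC70.isCoh_unit
      haveI := hO.1
      let G := (QC70.quotSC I (Coh.structureModule X)).X₃
      have hG : Coh.IsCoh G := QC70.isCoh_quot I hO
      haveI := hG.1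
      haveI := hG.2
      have hGy : y ∈ CohB1.support G := CohSerre72.mem_support_quot I hO (hI.ge (subset_closure rfl))
        (not_subsingleton_iff_nontrivial.2 (QC70.nontrivial_stalk_unit y))
      have hGsupp : CohB1.support G ⊆ closure {y} := (QC70.support_quot_subset_right I _).trans hI.le
      have hdy : topologicalKrullDim (closure ({y} : Set X)) < ((d + 1 : ℕ) : WithBot ℕ∞) :=
        lt_of_le_of_lt (LC17.dim_mono ((QC70.isClosed_support F).closure_subset_iff.2
          (Set.singleton_subset_iff.2 hy))) hd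
      have small : ∀ M : X.Modules, Coh.IsCoh M → CohB1.support M ⊆ closure {y} → y ∉ CohB1.support M →
          Claim k L d M := fun M hM hs hyM =>
        haveI := hM.2
        IHd M hM (Snapper75.dim_lt_of_notMem (QC70.isClosed_support M) hs hyM hdy)
      obtain ⟨hG0, hG1⟩ := claim_generic k hL hgen d hG y hGsupp
        (Snapper75.le_of_lt_succ (lt_of_le_of_lt (LC17.dim_mono hGsupp) hdy)) small
      refine ⟨G, hG, not_subsingleton_iff_nontrivial.1 hGy,
        QC70.stalk_killed (Y := Y) rfl fun W a ha t => QC70.smul_quot_eq_zero I _ W ha t, fun J hJ => ?_⟩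
      refine ⟨_, 𝟙 _, inferInstance, QC70.isCoh_idealMul J hG, ?_, fun hc => ?_⟩
      · rw [Category.id_comp]
        exact QC70.bijective_stalk_idealMulι J _ hJ
      · have hC := QC70.isCoh_quot J hG
        obtain ⟨hC0, hC1⟩ := small _ hC ((QC70.support_quot_subset_left J G).trans hGsupp)
          (QC70.notMem_support_iff.2 (QC70.subsingleton_stalk_cokernel _ y
            (QC70.bijective_stalk_idealMulι J G hJ).2))
        have hles := fun i n => hh_les k hL (QC70.quotSC_shortExact J G) hc hG hC i n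
        refine ⟨hG0.of_le fun n => (hles 0 n).2.2.2, fun i => ?_⟩
        refine Gr.of_le (Gr.add ?_ (hG1 i)) fun n => (hles i n).2.1
        rcases i with _ | i
        · exact hC0
        · exact (hC1 i).mono (Nat.sub_le d 1)

/-- Higher cohomology of powers is `O(n^(r-1))`. -/
theorem exists_bound (hgen : Curv2.IsGloballyGenerated L) (F : X.Modules) (hF : Coh.IsCoh F) {r : ℕ}
    (hd : topologicalKrullDim X ≤ (r : WithBot ℕ∞)) (i : ℕ) :
    Gr r (hh k L F (i + 1)) :=
  (claim_of_dim k hL hgen (r + 1) F hF (lt_of_le_of_lt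
    ((Topology.IsInducing.subtypeVal.topologicalKrullDim_le).trans hd)
    (by exact_mod_cast Nat.lt_succ_self r))).2 i

end Groth.Agent.NefVan72

end
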